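import Mathlib
import Cfsg.Agent.Gr.Monster

/-! Restriction of small representations of `K` to the extraspecial group. -/

set_option autoImplicit false

namespace Cfsg.Agent.Gr.MinD

open Finset Matrix Module Cfsg.Agent.Spor Cfsg.Agent.Spor.Leech

attribute [local irreducible] Ev Oct ShS

noncomputable def sc (a : ZMod 2) : ℂ := sgn a

theorem sc_zero : sc 0 = 1 := by rw [sc, sgn_zero, Complex.ofReal_one]
theorem sc_one : sc 1 = -1 := by rw [sc, sgn_one, Complex.ofReal_neg, Complex.ofReal_one]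
theorem sc_add (a b : ZMod 2) : sc (a + b) = sc a * sc b := by
  rw [sc, sgn_add, Complex.ofReal_mul, sc, sc]
theorem sc_mul_self (a : ZMod 2) : sc a * sc a = 1 := by rw [← sc_add, z2_add_self, sc_zero]

theorem sum_sc_pol (c : LL) : ∑ b : LL, sc (pol c b) = if c = 0 then 2 ^ 24 else 0 := by
  have : ∑ b : LL, sgn (pol c b) = if c = 0 then 2 ^ 24 else 0 := by
    rw [Fintype.sum_prod_type, sum_congr rfl fun d _ => sum_congr rfl fun x _ =>
      show sgn (pol c (d, x)) = sgn (c.2 ⬝ᵥ d) * sgn (c.1 ⬝ᵥ x) by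
        rw [pol, sgn_add, dotProduct_comm x], ← sum_mul_sum, sum_sgn_dot, sum_sgn_dot]
    by_cases h : c = 0
    · rw [if_pos h, h, if_pos Prod.snd_zero, if_pos Prod.fst_zero]; norm_num
    · rw [if_neg h]
      by_cases h2 : c.2 = 0
      · rw [if_neg (c := c.1 = 0) fun h1 => h (Prod.ext h1 h2), mul_zero]
      · rw [if_neg h2, zero_mul]
  simp only [sc]
  rw [← Complex.ofReal_sum, this]
  split_ifs <;> norm_num

theorem sum_sc_om : ∑ s : Sh, sc (pol (om, 0) s) = -24 := by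
  have h := sum_Sh fun c => 1 - sgn (pol (om, 0) c)
  simp only [pol_om] at h ⊢
  rw [sum_eq_zero (s := (univ : Finset Pt).offDiag) fun p _ => by
      rw [clB_par, clC_par, sgn_zero]; ring,
    sum_eq_zero (s := Oct) fun o _ => sum_eq_zero fun δ hδ => by rw [clT_par hδ, sgn_zero]; ring,
    sum_congr rfl fun d _ => sum_congr rfl fun i _ => by rw [clX_par, sgn_one], sum_const, sum_const,
    card_univ, card_univ, card_Pt, card_Cd, sum_sub_distrib, sum_const, card_univ,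
    Fintype.card_coe, card_ShS] at h
  simp only [sc]
  rw [← Complex.ofReal_sum, show ∑ s : Sh, sgn (s.1.2 ⬝ᵥ om) = -24 by
    simp only [nsmul_eq_mul, smul_eq_mul] at h; push_cast at h; linarith]
  norm_num

theorem card_LL : Fintype.card LL = 2 ^ 24 := by rw [Fintype.card_prod, card_Cd]; norm_num

theorem card_T3 : (univ.filter fun c : LL => qL c = 1).card = 8386560 := by
  have h1 : ∑ c : LL, sgn (qL c) = 4096 := by
    rw [Fintype.sum_prod_type_right, sum_congr rfl fun x _ =>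
      show ∑ d : Cd, sgn (qL (d, x)) = _ from sum_sgn_dot x, sum_ite_eq', if_pos (mem_univ _)]
  rw [sum_congr rfl (g := fun c => 1 - 2 * if qL c = 1 then 1 else 0) fun c _ => by
    rcases ActH.z2_cases (qL c) with e | e <;> rw [e]
    · rw [sgn_zero, if_neg zero_ne_one]; ring
    · rw [sgn_one, if_pos rfl]; ring, sum_sub_distrib, ← mul_sum, sum_boole, sum_const, card_univ,
    card_LL, nsmul_eq_mul] at h1
  have : ((univ.filter fun c : LL => qL c = 1).card : ℝ) = (8386560 : ℕ) := by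
    push_cast at h1 ⊢; linarith
  exact_mod_cast this

theorem exists_T3 : ∃ T : Finset LL, T.card = 8386560 ∧ ∀ c, c ∈ T ↔ qL c = 1 := by
  refine ⟨univ.filter fun c : LL => qL c = 1, card_T3, fun c => ?_⟩
  rw [mem_filter, and_iff_right (mem_univ c)]

theorem card_le_four {α : Type*} [Fintype α] (A B : Finset α) (a : α) : ∃ T : Finset α,
    Fintype.card α ≤ B.card + (1 + (A.card + T.card)) ∧ ∀ c ∈ T, c ∉ B ∧ c ≠ a ∧ c ∉ A := by
  classical
  have h : univ ⊆ B ∪ ({a} ∪ (A ∪ univ.filter fun c => c ∉ B ∧ c ≠ a ∧ c ∉ A)) := fun c hc => by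
    simp only [mem_union, mem_filter, mem_singleton]
    tauto
  exact ⟨_, (card_le_card h).trans ((card_union_le _ _).trans (add_le_add_right
    ((card_union_le _ _).trans (add_le_add_right (card_union_le _ _) _)) _)),
    fun c hc => (mem_filter.1 hc).2⟩

theorem exists_T4 : ∃ T : Finset LL, 8292375 ≤ T.card ∧ ∀ c ∈ T, qL c ≠ 1 ∧ c ≠ 0 ∧ c ∉ ShS := by
  obtain ⟨B, h1, h2⟩ := exists_T3
  obtain ⟨T, h3, h4⟩ := card_le_four ShS B 0
  rw [card_LL, card_ShS] at h3
  exact ⟨T, by omega, fun c hc => ⟨fun e => (h4 c hc).1 ((h2 c).2 e), (h4 c hc).2⟩⟩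

theorem exists_csm {a b : LL} (h : (a ∈ ShS ∧ b ∈ ShS) ∨ (qL a = 1 ∧ qL b = 1) ∨
    ((qL a ≠ 1 ∧ a ≠ 0 ∧ a ∉ ShS) ∧ qL b ≠ 1 ∧ b ≠ 0 ∧ b ∉ ShS)) : ∃ g : Co0, csm g a = b := by
  have k : ∀ c : LL, ∃ v, cls v = c ∧ (qL c = 1 → nm v = 48) ∧
      (qL c ≠ 1 ∧ c ≠ 0 ∧ c ∉ ShS → nm v = 64) := fun c => by
    obtain ⟨x, rfl⟩ := cls_surjective c
    obtain ⟨y, hy, e⟩ := MT.exists_short' x
    rw [cls_eq_iff.2 hy]
    refine ⟨y, rfl, fun h => ?_, fun h => ?_⟩
    · rw [qL_cls] at h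
      rcases e with e | e | e | e
      · rw [e, qd_eq (n := 0) nm_zero] at h; exact absurd h (by decide)
      · rw [qd_eq (n := 2) e] at h; exact absurd h (by decide)
      · exact e
      · rw [qd_eq (n := 4) e] at h; exact absurd h (by decide)
    · rcases e with e | e | e | e
      · exact (h.2.1 (by rw [e, cls_zero])).elim
      · exact (h.2.2 (cls_mem_ShS e)).elim
      · exact (h.1 (by rw [qL_cls, qd_eq (n := 3) e]; decide)).elim
      · exact e
  rcases h with h | h | h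
  · obtain ⟨g, hg⟩ := trans32 (nm_rep h.1) (nm_rep h.2)
    exact ⟨g, by rw [← cls_rep h.1, csm_cls, hg, cls_rep h.2]⟩
  · obtain ⟨v, rfl, hv, -⟩ := k a
    obtain ⟨w, rfl, hw, -⟩ := k b
    obtain ⟨g, hg⟩ := trans48 (hv h.1) (hw h.2)
    exact ⟨g, by rw [csm_cls, hg]⟩
  · obtain ⟨v, rfl, -, hv⟩ := k a
    obtain ⟨w, rfl, -, hw⟩ := k b
    obtain ⟨g, hg⟩ := exists_smul_eq_e8 (hv h.1) none
    obtain ⟨g', hg'⟩ := exists_smul_eq_e8 (hw h.2) none
    exact ⟨g'⁻¹ * g, by rw [csm_cls, mul_smul, hg, ← hg', inv_smul_smul]⟩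

theorem sum_reindex {M : Type*} [AddCommMonoid M] (F : ZMod 2 × LL → ZMod 2 × LL) {φ : K → K}
    (hφ : Function.Injective φ) (h : ∀ p, tq (F p).1 (F p).2 = φ (tq p.1 p.2))
    (g : ZMod 2 × LL → M) : ∑ p, g (F p) = ∑ p, g p :=
  Function.Bijective.sum_comp (Finite.injective_iff_bijective.1 fun p q e => by
    have := tq_inj.1 (hφ ((h p).symm.trans (e ▸ h q)))
    exact Prod.ext this.1 this.2) g

variable {U : Type*} [AddCommGroup U] [Module ℂ U] (ρ : K →* End ℂ U)

section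
variable {ι : Type*} {s : Finset ι} {f : ι → End ℂ U} {x : End ℂ U} (h : x = ∑ i ∈ s, f i)
include h
theorem smul_eq_sum (a : ℂ) : a • x = ∑ i ∈ s, a • f i := by rw [h, smul_sum]
theorem mul_eq_sum (a : End ℂ U) : a * x = ∑ i ∈ s, a * f i := by rw [h, mul_sum]
theorem mul_eq_sum' (a : End ℂ U) : x * a = ∑ i ∈ s, f i * a := by rw [h, sum_mul]
theorem trace_eq_sum : LinearMap.trace ℂ U x = ∑ i ∈ s, LinearMap.trace ℂ U (f i) := by
  rw [h, map_sum]
end

theorem exists_P (c : LL) : ∃ x : End ℂ U,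
    x = ∑ p : ZMod 2 × LL, (((2 : ℂ) ^ 25)⁻¹ * sc (pol c p.2)) • ρ (tq p.1 p.2) := ⟨_, rfl⟩

/-- The projection to the eigenspace of the character `c` of `QK`. -/
noncomputable def P (c : LL) : End ℂ U := (exists_P ρ c).choose

theorem P_eq (c : LL) :
    P ρ c = ∑ p : ZMod 2 × LL, (((2 : ℂ) ^ 25)⁻¹ * sc (pol c p.2)) • ρ (tq p.1 p.2) :=
  (exists_P ρ c).choose_spec

theorem tq_mul_P (e : ZMod 2) (b c : LL) : ρ (tq e b) * P ρ c = sc (pol c b) • P ρ c := by
  rw [mul_eq_sum (P_eq ρ c), smul_eq_sum (P_eq ρ c), ← sum_reindex (fun p => (e + p.1 + p.2.2 ⬝ᵥ b.1, b + p.2))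
    (mul_right_injective (tq e b)) (fun p => (tq_mul _ _ _ _).symm)
    fun p => sc (pol c b) • (((2 : ℂ) ^ 25)⁻¹ * sc (pol c p.2)) • ρ (tq p.1 p.2)]
  refine sum_congr rfl fun p _ => ?_
  rw [mul_smul_comm, ← map_mul, tq_mul, pol_add_right, sc_add, smul_smul, mul_left_comm,
    ← mul_assoc (sc _), sc_mul_self, one_mul]

theorem act_mul_P (γ : Ct) (c : LL) : ρ (act γ) * P ρ c = P ρ (csm γ.1.2 c) * ρ (act γ) := by
  rw [mul_eq_sum (P_eq ρ c), mul_eq_sum' (P_eq ρ _), ← sum_reindex (fun p => (p.1 + eps γ p.2, csm γ.1.2 p.2))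
    (φ := fun x => act γ * x * (act γ)⁻¹) (fun x y e => mul_left_cancel (mul_right_cancel e))
    (fun p => (act_conj _ _ _).symm)
    fun p => ((((2 : ℂ) ^ 25)⁻¹ * sc (pol _ p.2)) • ρ (tq p.1 p.2)) * ρ (act γ)]
  refine sum_congr rfl fun p _ => ?_
  rw [mul_smul_comm, smul_mul_assoc, ← map_mul, ← map_mul, pol_csm, ← act_conj,
    inv_mul_cancel_right]

theorem P_mul_tq (e : ZMod 2) (b c : LL) : P ρ c * ρ (tq e b) = sc (pol c b) • P ρ c := by
  have := act_mul_P ρ (ActH.gq e b) c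
  rw [ActH.gq_snd, csm_one] at this
  exact this.symm.trans (tq_mul_P ρ e b c)

theorem P_mul_P (c c' : LL) : P ρ c * P ρ c' = if c = c' then P ρ c else 0 := by
  rw [mul_eq_sum' (P_eq ρ c), sum_congr rfl (g := fun p : ZMod 2 × LL => (((2 : ℂ) ^ 25)⁻¹ * sc (pol (c + c') p.2)) • P ρ c')
    fun p _ => by rw [smul_mul_assoc, tq_mul_P, smul_smul, pol_add_left, sc_add, mul_assoc],
    ← sum_smul, ← mul_sum, Fintype.sum_prod_type, sum_congr rfl fun _ _ => sum_sc_pol (c + c'),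
    sum_const, card_univ, ZMod.card]
  by_cases h : c = c'
  · rw [if_pos h, if_pos (by rw [h, ll_add_self]), h]
    norm_num
  · rw [if_neg h, if_neg fun e => h (ll_eq_of_add e), smul_zero, mul_zero, zero_smul]

theorem sum_P (y : LL) : ∑ c, sc (pol c y) • P ρ c = (2 : ℂ)⁻¹ • (ρ (tq 0 y) + ρ (tq 1 y)) := by
  rw [sum_congr rfl fun c _ => smul_eq_sum (P_eq ρ c) _, sum_comm,
    sum_congr rfl (g := fun p : ZMod 2 × LL =>
    if p.2 = y then (2 : ℂ)⁻¹ • ρ (tq p.1 p.2) else 0) fun p _ => by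
      rw [sum_congr rfl (g := fun c => (((2 : ℂ) ^ 25)⁻¹ * sc (pol (p.2 + y) c)) • ρ (tq p.1 p.2))
        fun c _ => by
          rw [smul_smul, pol_add_left, sc_add, pol_comm c, pol_comm c, mul_left_comm, mul_comm (sc _)],
        ← sum_smul, ← mul_sum, sum_sc_pol]
      by_cases h : p.2 = y
      · rw [if_pos h, if_pos (by rw [h, ll_add_self])]
        norm_num
      · rw [if_neg h, if_neg fun e => h (ll_eq_of_add e), mul_zero, zero_smul],
    Fintype.sum_prod_type, sum_congr rfl fun e _ => (sum_ite_eq' _ _ _).trans (if_pos (mem_univ _)),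
    smul_add]
  exact Fin.sum_univ_two fun e : Fin 2 => (2 : ℂ)⁻¹ • ρ (tq e y)

theorem trace_conj (g k : K) :
    LinearMap.trace ℂ U (ρ (k * g * k⁻¹)) = LinearMap.trace ℂ U (ρ g) := by
  rw [map_mul, LinearMap.trace_mul_comm, ← map_mul, inv_mul_cancel_left]

variable [FiniteDimensional ℂ U]

theorem trace_idem {p : End ℂ U} (h : p * p = p) :
    LinearMap.trace ℂ U p = finrank ℂ (LinearMap.range p) :=
  (LinearMap.IsIdempotentElem.isProj_range p h).trace

/-- The multiplicity of the character `c`. -/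
noncomputable def mm (c : LL) : ℕ := finrank ℂ (LinearMap.range (P ρ c))

theorem trace_P (c : LL) : LinearMap.trace ℂ U (P ρ c) = mm ρ c :=
  trace_idem (by rw [P_mul_P, if_pos rfl])

theorem mm_csm (g : Co0) (c : LL) : mm ρ (csm g c) = mm ρ c := by
  obtain ⟨γ, rfl⟩ := exists_lift g
  have := congrArg (fun x => LinearMap.trace ℂ U (x * ρ (act γ)⁻¹)) (act_mul_P ρ γ c)
  simp only [mul_assoc, ← map_mul, mul_inv_cancel, map_one, mul_one] at this
  rw [LinearMap.trace_mul_comm, mul_assoc, ← map_mul, inv_mul_cancel, map_one, mul_one, trace_P,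
    trace_P] at this
  exact_mod_cast this.symm

theorem sum_mm : 2 * ∑ c, (mm ρ c : ℂ) = finrank ℂ U + LinearMap.trace ℂ U (ρ zz) := by
  have := congrArg (LinearMap.trace ℂ U) (sum_P ρ 0)
  rw [map_sum, sum_congr rfl fun c _ => by rw [pol_zero_right, sc_zero, one_smul, trace_P],
    map_smul, map_add, tq_zero, map_one, LinearMap.trace_one, smul_eq_mul] at this
  rw [this, zz]
  ring

theorem sum_mm_le : ∑ c, mm ρ c ≤ finrank ℂ U := by
  have h := congrArg (LinearMap.trace ℂ U) (sum_P ρ 0)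
  rw [map_sum, sum_congr rfl fun c _ => by rw [pol_zero_right, sc_zero, one_smul, trace_P],
    trace_idem (by
      rw [tq_zero, map_one, smul_mul_smul_comm, add_mul, mul_add, mul_add, ← map_mul,
        show tq 1 0 * tq 1 0 = 1 from zz_mul_self, map_one, one_mul, one_mul, mul_one]
      module)] at h
  exact (Nat.cast_injective (R := ℂ) ((Nat.cast_sum _ _).trans h)).trans_le (Submodule.finrank_le _)

variable {ρ}

theorem mm_zero (h : finrank ℂ U < 393168) {c : LL} (h0 : c ≠ 0) (h1 : c ∉ ShS) : mm ρ c = 0 := by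
  by_contra hc
  have k : ∀ T : Finset LL, (∀ b ∈ T, ∃ g : Co0, csm g c = b) → T.card < 393168 := fun T hT => by
    refine lt_of_le_of_lt ?_ ((sum_mm_le ρ).trans_lt h)
    rw [card_eq_sum_ones]
    refine (sum_le_sum fun b hb => ?_).trans (sum_le_sum_of_subset (subset_univ _))
    obtain ⟨g, rfl⟩ := hT b hb
    rw [mm_csm]
    omega
  by_cases h3 : qL c = 1
  · obtain ⟨T, a, b⟩ := exists_T3
    have := k T fun x hx => exists_csm (Or.inr (Or.inl ⟨h3, (b x).1 hx⟩))
    omega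
  · obtain ⟨T, a, b⟩ := exists_T4
    have := k T fun x hx => exists_csm (Or.inr (Or.inr ⟨⟨h3, h0, h1⟩, b x hx⟩))
    omega

theorem sum_LL {f : LL → ℂ} (h : ∀ c, c ≠ 0 → c ∉ ShS → f c = 0) :
    ∑ c, f c = f 0 + ∑ s : Sh, f s := by
  rw [sum_coe_sort ShS f, ← sum_insert zero_not_mem_ShS]
  exact (sum_subset (subset_univ _) fun c _ hc => by
    rw [mem_insert, not_or] at hc
    exact h c hc.1 hc.2).symm

theorem mm_one (h : finrank ℂ U < 393168) (hz : ρ zz ≠ 1) :
    (∀ c ∈ ShS, mm ρ c = 1) ∧ finrank ℂ U = mm ρ 0 + 196584 := by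
  have h1 : ∀ c ∈ ShS, mm ρ c = mm ρ c0 := fun c hc => by
    obtain ⟨g, rfl⟩ := exists_csm (Or.inl ⟨c0_mem, hc⟩)
    exact mm_csm ρ g c0
  have h2 := sum_mm ρ
  have h3 := congrArg (LinearMap.trace ℂ U) (sum_P ρ (om, 0))
  rw [map_sum, sum_congr rfl fun c _ => by rw [map_smul, trace_P, pol_comm, smul_eq_mul], map_smul,
    map_add, ← tau_conj_zz, trace_conj, ← trace_conj ρ (tq 0 (om, 0)) tau, tau_conj_zero,
    sum_LL fun c a b => by rw [mm_zero h a b, Nat.cast_zero, mul_zero], pol_zero_right, sc_zero,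
    sum_congr rfl fun s _ => by rw [h1 _ s.2], ← sum_mul, sum_sc_om, smul_eq_mul] at h3
  rw [sum_LL fun c a b => by rw [mm_zero h a b, Nat.cast_zero],
    sum_congr rfl fun s _ => by rw [h1 _ s.2], sum_const, card_univ, Fintype.card_coe, card_ShS,
    nsmul_eq_mul] at h2
  have h4 : finrank ℂ U = mm ρ 0 + 196584 * mm ρ c0 := by
    have : (finrank ℂ U : ℂ) = mm ρ 0 + 196584 * mm ρ c0 := by
      push_cast at h2; linear_combination -h2 + h3
    exact_mod_cast this
  have h5 : mm ρ c0 ≠ 0 := fun e => hz (by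
    rw [e, mul_zero, add_zero] at h4
    have h6 := Submodule.eq_top_of_finrank_eq h4.symm
    refine LinearMap.ext fun v => ?_
    obtain ⟨w, rfl⟩ := LinearMap.range_eq_top.1 h6 v
    rw [← End.mul_apply, zz, tq_mul_P, pol_zero_left, sc_zero, one_smul, End.one_apply])
  have h6 : mm ρ c0 = 1 := by omega
  exact ⟨fun c hc => (h1 c hc).trans h6, by rw [h4, h6]⟩

end Cfsg.Agent.Gr.MinD
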