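import Mathlib
import Cfsg.Agent.Gr.YTop
import Cfsg.Agent.Gr.SubA
import Cfsg.Agent.Sym.Present

/-! Two alternating groups of degree twelve generated by nodes. -/

set_option autoImplicit false
set_option maxRecDepth 100000

namespace Cfsg.Agent.Gr.HN

open Subgroup Equiv Equiv.Perm Cfsg.Spor Cfsg.Agent.Spor Cfsg.Agent.Spor.TT YW

variable {n : Bimonster.Gen → K}

/-- The letters of the Fischer group in the space attached to `f3, e2, f2`. -/
def ndS (i : ℕ) : Bimonster.Gen := [.a, .b3, .b2, .b1, .c3, .c2, .c1, .d1, .d3, .e1].getD i .a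

theorem six (h : Y5 n) : n .d3 * n .b3 * n .b1 * n .d1 * n .f1 ∈ DD := by
  have a : InA lb .f3 .e2 .f2 [.a, .b3, .b2, .b1, .c3, .c2, .c1, .d1, .d3, .e1] := by decide
  have m : ∀ i < 10, ndS i ∈ [.a, .b3, .b2, .b1, .c3, .c2, .c1, .d1, .d3, .e1] := by decide
  have hL : CLab (Amb (n .f3) (n .e2) (n .f2)) (fun i => n (ndS i) * (n .f3)⁻¹) 10
      fun x y => if ed23 x y then 3 else 2 :=
    ⟨(h.kn.s3p a).isThree, fun i hi => h.kn.mem a (m i hi),
      fun i hi j hj e => h.kn.comm a (m i hi) (m j hj) (by revert i j; decide),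
      fun i hi j hj e => h.kn.ncomm a (m i hi) (m j hj) (by revert i j; decide)⟩
  simp only [h.one, inv_one, mul_one] at hL
  have h1 : evalW (fun i => n (ndS i)) [0, 1, 4, 0, 3, 6, 0, 2, 5] ^ 10 = 1 := by
    rw [show evalW (fun i => n (ndS i)) [0, 1, 4, 0, 3, 6, 0, 2, 5] = (n .a * n .b3 * n .c3) *
      (n .a * n .b1 * n .c1 * n .a * n .b2 * n .c2 * n .a * n .b3 * n .c3) *
        (n .a * n .b3 * n .c3)⁻¹ by simp [ndS, mul_assoc], conj_pow, h.spider, mul_one,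
      mul_inv_cancel]
  have h2 : evalW (fun i => n (ndS i)) [8, 4, 1, 0, 3, 6, 2] ^ 9 = 1 := by
    rw [show evalW (fun i => n (ndS i)) [8, 4, 1, 0, 3, 6, 2] =
      (n .d3 * n .c3 * n .b3 * n .d3 * n .c3 * n .d3) *
      (n .a * n .b3 * n .b1 * n .b2 * n .c3 * n .c1 * n .d3) *
      (n .d3 * n .c3 * n .b3 * n .d3 * n .c3 * n .d3)⁻¹ from ?_, conj_pow, h.rels.2.2, mul_one,
      mul_inv_cancel]
    rw [eq_mul_inv_iff_mul_eq, show evalW (fun i => n (ndS i)) [8, 4, 1, 0, 3, 6, 2] =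
      n .d3 * n .c3 * n .b3 * n .a * n .b1 * n .c1 * n .b2 by simp [ndS, mul_assoc]]
    simp only [mul_assoc, (h.comm .b2 .d3).left_comm, (h.comm .c1 .d3).left_comm,
      (h.comm .b1 .d3).left_comm, (h.comm .a .d3).left_comm, (h.comm .b3 .d3).left_comm,
      (h.comm .b2 .c3).left_comm, (h.comm .c1 .c3).left_comm, (h.comm .b1 .c3).left_comm,
      (h.comm .a .c3).left_comm, (h.comm .b2 .b3).left_comm, (h.comm .c1 .b3).left_comm,
      (h.comm .b1 .b3).left_comm, (h.comm .c1 .b2).eq, (h.comm .c1 .d3).eq]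
  obtain ⟨φ, hφ⟩ := hL.exists_hom (extra := Fi23.extra) MFi23.hL
    (W := [powW 10 [0, 1, 4, 0, 3, 6, 0, 2, 5], powW 9 [8, 4, 1, 0, 3, 6, 2]])
    (by simpa only [List.forall_mem_cons, evalW_powW, h1, h2] using by simp) (by decide +kernel)
  replace hφ : ∀ w : List ℕ, (∀ x ∈ w, x < 10) → φ (evalW MFi23.g w) = evalW (fun i => n (ndS i)) w :=
    fun w hw => (map_evalW _ _ _).trans (evalW_congr fun x hx => hφ x (hw x hx))
  obtain ⟨w, hw, e⟩ : ∃ w : List ℕ, (∀ x ∈ w, x < 10) ∧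
      evalW MFi23.g (appL w (appL [8, 1, 3, 7] (powW 9 [0, 3, 2, 1, 6, 5, 7]))) =
        evalW MFi23.g (appL [2, 3] w) :=
    ⟨[0, 1, 4, 8, 6, 2, 0, 1, 4, 3, 0, 2, 1, 0, 3, 6, 4, 1, 0, 2, 3, 0, 1, 4, 6, 7, 5, 3, 6, 2, 0, 1,
      3, 0, 2, 5, 6, 3, 0, 1, 2, 0, 3, 6, 0, 2, 3, 0], by decide,
      MFi23.tabs0.eq_of_base MFi23.baseg (by decide) (by decide +kernel)⟩
  replace e := congrArg φ e
  simp only [evalW_appL, evalW_powW, map_mul, map_pow] at e
  rw [hφ _ hw, hφ _ (by decide), hφ _ (by decide), hφ _ (by decide),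
    ← mul_inv_eq_iff_eq_mul] at e
  rw [← mem_DD_conj (g := evalW (fun i => n (ndS i)) w), h.rel_f1]
  have := h.cm .b2 .b1 (by decide) (by decide)
  rw [Gr.cm, h.inv_eq (s := .b1) (by decide)] at this
  convert this using 1
  simpa [ndS, mul_assoc] using e

/-- The interchange of the first two arms. -/
def sw12 : Bimonster.Gen → Bimonster.Gen
  | .b1 => .b2 | .c1 => .c2 | .d1 => .d2 | .e1 => .e2 | .f1 => .f2
  | .b2 => .b1 | .c2 => .c1 | .d2 => .d1 | .e2 => .e1 | .f2 => .f1 | x => x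

theorem swap12 (h : Y5 n) : Y5 fun x => n (sw12 x) := by
  have l : ∀ x y, (x ≠ y → sw12 x ≠ sw12 y) ∧ lb (sw12 x) (sw12 y) = lb x y := fun x y => by
    cases x <;> cases y <;> decide
  refine ⟨h.one, fun x y e k => h.cm _ _ ((l x y).1 e) ((l x y).2.trans k),
    fun x y e k => h.br _ _ ((l x y).1 e) fun k' => k ((l x y).2.symm.trans k'), ?_⟩
  have i : ∀ s, s ≠ .e3 → (n s)⁻¹ = n s := fun s => h.inv_eq
  have h1 : n .a * n .b2 * n .c2 * n .a * n .b1 * n .c1 * n .a * n .b3 * n .c3 =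
      (n .c3 * n .b3 * n .c2 * n .c1 * n .c3)⁻¹ *
      (n .a * n .b1 * n .c1 * n .a * n .b2 * n .c2 * n .a * n .b3 * n .c3)⁻¹ *
      (n .c3 * n .b3 * n .c2 * n .c1 * n .c3)⁻¹⁻¹ := by
    rw [inv_inv, mul_assoc (_⁻¹), eq_inv_mul_iff_mul_eq, mul_inv_rev]
    simp only [mul_inv_rev, i, ne_eq, reduceCtorEq, not_false_eq_true, mul_assoc,
      (h.comm .c1 .a).left_comm, (h.comm .c2 .a).left_comm, (h.comm .c3 .a).left_comm,
      (h.comm .c1 .b2).left_comm, (h.comm .c1 .b3).left_comm, (h.comm .c2 .b1).left_comm,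
      (h.comm .c2 .b3).left_comm, (h.comm .c3 .b1).left_comm, (h.comm .c3 .b2).left_comm]
  change (n .a * n .b2 * n .c2 * n .a * n .b1 * n .c1 * n .a * n .b3 * n .c3) ^ 10 = 1
  rw [h1, conj_pow, inv_pow, h.spider, inv_one, mul_one, mul_inv_cancel]

/-- The alternating group of degree twelve. -/
abbrev A12 := alternatingGroup (Fin 12)

/-- A product of two transpositions. -/
def dt (a b c d : Fin 12) (h : a ≠ b ∧ c ≠ d := by decide) : A12 :=
  ⟨swap a b * swap c d, by simp [h.1, h.2]⟩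

/-- The classes of the images of the involutions. -/
structure AD (φ : A12 →* K) : Prop where
  two : ∀ σ : A12, σ * σ = 1 → σ.1.support.card = 4 ∨ σ.1.support.card = 12 → φ σ ∈ DD
  four : ∀ σ : A12, σ * σ = 1 → σ.1.support.card = 8 → IsConj zz (φ σ)

theorem isConj_of_card {σ τ : A12} (hσ : σ * σ = 1) (hτ : τ * τ = 1)
    (h : σ.1.support.card = τ.1.support.card) (h0 : swap 0 1 * τ.1 = τ.1 * swap 0 1) :
    IsConj σ τ := by
  haveI : Fact (Nat.Prime 2) := ⟨by norm_num⟩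
  have k : ∀ x : A12, x * x = 1 → x.1.cycleType = Multiset.replicate (x.1.support.card / 2) 2 :=
    fun x hx => by
      have e := cycleType_of_pow_prime_eq_one (σ := x.1) (p := 2)
        (by rw [pow_two]; exact congrArg Subtype.val hx)
      rw [← sum_cycleType, e]
      simp
  obtain ⟨g, hg⟩ := isConj_iff.1 (isConj_iff_cycleType_eq.2 ((k σ hσ).trans (h ▸ (k τ hτ).symm)))
  rcases Int.units_eq_one_or (sign g) with e | e
  · exact isConj_iff.2 ⟨⟨g, e⟩, Subtype.ext hg⟩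
  · refine isConj_iff.2 ⟨⟨swap 0 1 * g, by simp [e]⟩, Subtype.ext ?_⟩
    change swap 0 1 * g * σ.1 * (swap 0 1 * g)⁻¹ = τ.1
    rw [← mul_inv_cancel_right τ.1 (swap 0 1), ← h0, ← hg]
    group

/-- The nodes of a string of length eleven. -/
def nd (i : Fin 11) : Bimonster.Gen := ![.f3, .e3, .d3, .c3, .b3, .a, .b1, .c1, .d1, .e1, .f1] i

/-- A product of transpositions of neighbours. -/
def pm (l : List (Fin 11)) : Perm (Fin 12) := (l.map fun i => swap i.castSucc i.succ).prod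

theorem left_mul {x : W K} (hx : x.right = 1) (y : W K) : (x * y).left.1 = x.left.1 * y.left.1 := by
  rw [SemidirectProduct.mul_left, hx]; rfl

theorem r_sq (p : K) : r p * r p = 1 := by
  rw [r_mul, mul_inv_cancel, inv_mul_cancel]; exact map_one _

theorem exists_phi (h : Y5 n) : ∃ (Φ : Perm (Fin 12) →* W K) (φ : A12 →* K),
    (∀ l, Φ (pm l) = (l.map fun i => r (n (nd i))).prod) ∧
    (∀ σ : A12, (Φ σ).right = 1 ∧ φ σ = (Φ σ).left.1) ∧ AD φ ∧
    ∀ x, (∀ i, lb (nd i) x = 2) → ∀ σ, Commute (Φ σ) (r (n x)) := by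
  have c : ∀ x y, lb x y = 2 → Commute (r (n x)) (r (n y)) := fun x y e =>
    Sub.comm_of_sq (r_sq _) (r_sq _) (by rw [← pow_two, ← e]; exact r_pow (h.cox x y))
  obtain ⟨Φ, hΦ⟩ := Sym.exists_hom_of_coxeter 11 (fun i => r (n (nd i))) (fun _ => r_sq _)
    (fun i j e => Sym.braid_of_pow_three (r_sq _) (r_sq _) (by
      rw [← show lb (nd i) (nd j) = 3 by revert i j; decide]; exact r_pow (h.cox _ _)))
    fun i j e => c _ _ (by revert i j; decide)
  have h1 : ∀ σ : A12, (Φ σ).right = 1 := fun σ => (DFunLike.congr_fun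
    (MonoidHom.eq_of_eqOn_denseM (mclosure_swap_castSucc_succ 11) (g := sign)
      (f := SemidirectProduct.rightHom.comp Φ) (by
        rintro _ ⟨i, rfl⟩
        rw [MonoidHom.comp_apply, hΦ, sign_swap (Fin.castSucc_lt_succ).ne]
        rfl)) σ.1).trans σ.2
  have h2 : ∀ l, Φ (pm l) = (l.map fun i => r (n (nd i))).prod := fun l => by
    rw [pm, map_list_prod, List.map_map]
    exact congrArg _ (List.map_congr_left fun i _ => hΦ i)
  let φ : A12 →* K := MonoidHom.mk' (fun σ => (Φ σ).left.1) fun σ τ => by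
    rw [Subgroup.coe_mul, map_mul, left_mul (h1 σ)]
  have h3 : ∀ (σ : A12) (i j : Fin 11), σ.1 = pm [i, j] → φ σ = n (nd i) * (n (nd j))⁻¹ :=
    fun σ i j e => by
      change (Φ σ).left.1 = _
      rw [e, h2, List.map_cons, List.map_singleton, List.prod_cons, List.prod_singleton, r_mul]
      rfl
  have k1 : φ (dt 0 1 2 3) = n .d3 := (h3 _ 0 2 (by decide)).trans (by
    rw [show nd 0 = .f3 from rfl, h.one, one_mul]; exact h.inv_eq (s := .d3) (by decide))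
  have k2 : φ (dt 4 5 6 7) = n .b3 * n .b1 := (h3 _ 4 6 (by decide)).trans
    (congrArg _ (h.inv_eq (s := .b1) (by decide)))
  have k3 : φ (dt 8 9 10 11) = n .d1 * n .f1 := (h3 _ 8 10 (by decide)).trans
    (congrArg _ (h.inv_eq (s := .f1) (by decide)))
  have k : ∀ {σ τ : A12}, IsConj σ τ → φ τ ∈ DD → φ σ ∈ DD := fun e m => by
    obtain ⟨g, rfl⟩ := isConj_iff.1 e
    rwa [map_mul, map_mul, map_inv, mem_DD_conj] at m
  refine ⟨Φ, φ, h2, fun σ => ⟨h1 σ, rfl⟩, ⟨fun σ e1 e2 => ?_, fun σ e1 e2 => ?_⟩, fun x hx σ => ?_⟩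
  · rcases e2 with e2 | e2
    · exact k (isConj_of_card e1 (τ := dt 0 1 2 3) (by decide) (e2.trans (by decide)) (by decide))
        (k1 ▸ h.mem (by decide) (by decide))
    · refine k (isConj_of_card e1 (τ := dt 0 1 2 3 * dt 4 5 6 7 * dt 8 9 10 11) (by decide)
        (e2.trans (by decide)) (by decide)) ?_
      simpa only [map_mul, k1, k2, k3, mul_assoc] using six h
  · refine IsConj.trans ?_ (φ.map_isConj (isConj_of_card e1 (τ := dt 0 1 2 3 * dt 4 5 6 7)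
      (by decide) (e2.trans (by decide)) (by decide)).symm)
    obtain ⟨g, hg⟩ := tri_std (h.mem (s := .d3) (by decide) (by decide)) (h.mem_O1 .d3 .b3)
      (h.mem_O1 .d3 .b1) (h.mem_O1 .b3 .b1) (h.ne_mul .c1 (h.comm .c1 .d3) (h.comm .c1 .b3))
    rw [map_mul, k1, k2, ← mul_assoc]
    exact isConj_iff.2 ⟨_, tri_zz hg⟩
  · have : σ ∈ (Submonoid.centralizer {r (n x)}).comap Φ := by
      refine (Submonoid.closure_le.2 ?_) ((mclosure_swap_castSucc_succ 11).ge trivial)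
      rintro _ ⟨i, rfl⟩ _ rfl
      exact (hΦ i ▸ c _ _ (hx i)).symm
    exact (this _ rfl).symm

/-- A cycle of length four. -/
def c4 : Perm (Fin 12) := swap 0 2 * swap 1 3 * swap 2 3

/-- The two alternating groups. -/
structure HD (φ ψ : A12 →* K) : Prop where
  ad : AD φ
  ad' : AD ψ
  a_eq : φ (dt 0 1 2 3) = ψ (dt 0 1 2 3)
  cd : ∀ σ, Commute (φ σ) (ψ (dt 7 8 9 10)) ∧ Commute (φ σ) (ψ (dt 8 9 10 11))
  cw : ∀ σ τ : A12, c4 * σ.1 = τ.1 * c4 →
    ψ (dt 0 2 1 3 * dt 7 9 8 10 * dt 2 3 9 10) * φ σ = φ τ * ψ (dt 0 2 1 3 * dt 7 9 8 10 * dt 2 3 9 10)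

theorem exists_HD : ∃ φ ψ, HD φ ψ := by
  obtain ⟨n, h, -⟩ := exists_Y5
  obtain ⟨Φ, φ, a1, a2, a3, a4⟩ := exists_phi h
  obtain ⟨Ψ, ψ, b1, b2, b3, -⟩ := exists_phi (swap12 h)
  have c : ∀ l : List (Fin 11), (∀ i ∈ l, ∀ j, lb (nd j) (sw12 (nd i)) = 2) → ∀ σ,
      Commute (Φ σ) (Ψ (pm l)) := fun l hl σ => by
    rw [b1]
    refine Commute.list_prod_right _ _ fun x hx => ?_
    obtain ⟨i, hi, rfl⟩ := List.mem_map.1 hx
    exact a4 _ (hl i hi) σ
  have e : ∀ {σ τ ω : A12}, Ψ ω * Φ σ = Φ τ * Ψ ω → ψ ω * φ σ = φ τ * ψ ω := fun {σ τ ω} e => by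
    rw [(a2 _).2, (a2 _).2, (b2 _).2, ← left_mul (b2 _).1, ← left_mul (a2 _).1, e]
  refine ⟨φ, ψ, a3, b3, ?_, fun σ => ⟨(e ?_).symm, (e ?_).symm⟩, fun σ τ k => e ?_⟩
  · rw [(a2 _).2, (b2 _).2, show (dt 0 1 2 3).1 = pm [0, 2] by decide, a1, b1]
    rfl
  · rw [show (dt 7 8 9 10).1 = pm [7, 9] by decide, (c _ (by decide) _).eq]
  · rw [show (dt 8 9 10 11).1 = pm [8, 10] by decide, (c _ (by decide) _).eq]
  · have k1 : Ψ c4 = Φ c4 := by
      rw [show c4 = pm [1, 0, 2, 1, 2] by decide, a1, b1]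
      rfl
    rw [show (dt 0 2 1 3 * dt 7 9 8 10 * dt 2 3 9 10).1 = c4 * pm [8, 7, 9, 8, 9] by decide,
      map_mul, k1, mul_assoc, ← (c _ (by decide) _).eq, ← mul_assoc, ← mul_assoc, ← map_mul,
      ← map_mul, k]

end Cfsg.Agent.Gr.HN
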