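import Mathlib
import Cfsg.Agent.Gr.YTop
import Cfsg.Agent.Gr.YGen
import Cfsg.Agent.Gr.Baby2
import Cfsg.Agent.Spor.MX.Sect2

/-! A central extension of `K` that splits over `HH` carries a system of nodes. -/

set_option autoImplicit false

namespace Cfsg.Agent.Gr.MulM

open Subgroup Cfsg.Spor Cfsg.Agent.Spor.MX Cfsg.Agent.Ch Cfsg.Agent.Chev

/-- The base involution in its centraliser. -/
noncomputable def tH : HH := ⟨t0, mem_cent.2 rfl⟩

variable {E : Type*} [Group E] {π : E →* K} {η : HH →* E}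

/-- The class of the lift of `t0`. -/
def DE (η : HH →* E) : Set E := {x | ∃ g, g * η tH * g⁻¹ = x}

theorem conj_mem {x : E} (hx : x ∈ DE η) (g : E) : g * x * g⁻¹ ∈ DE η :=
  let ⟨k, e⟩ := hx
  ⟨g * k, by rw [← e]; group⟩

theorem sq {x : E} (hx : x ∈ DE η) : x * x = 1 := by
  obtain ⟨g, rfl⟩ := hx
  rw [conj_mul, ← map_mul, show tH * tH = 1 from Subtype.ext (DD_mul_self t0_mem), map_one, mul_one,
    mul_inv_cancel]

theorem inv {x : E} (hx : x ∈ DE η) : x⁻¹ = x := inv_eq_of_mul_eq_one_right (sq hx)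

variable (hp : IsCE π) (hη : ∀ x, π (η x) = x)
include hη

theorem map_mem {x : E} (hx : x ∈ DE η) : π x ∈ DD := by
  obtain ⟨g, rfl⟩ := hx
  rw [map_mul, map_mul, map_inv, hη]
  exact conj_mem_DD _ t0_mem

include hp

theorem exists_lift {t : K} (ht : t ∈ DD) : ∃ x ∈ DE η, π x = t := by
  obtain ⟨g, rfl⟩ := exists_conj_DD t0_mem ht
  obtain ⟨g, rfl⟩ := hp.surj g
  exact ⟨_, ⟨g, rfl⟩, by rw [map_mul, map_mul, map_inv, hη]; rfl⟩

theorem eq_mul {y : E} {h : HH} (e : π y = h) : ∃ c, (∀ g, Commute c g) ∧ y = η h * c :=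
  ⟨(η h)⁻¹ * y, hp.commute (by rw [map_mul, map_inv, hη, e, inv_mul_cancel]), (mul_inv_cancel_left _ _).symm⟩

theorem inj {x y : E} (hx : x ∈ DE η) (hy : y ∈ DE η) (e : π x = π y) : x = y := by
  obtain ⟨g, rfl⟩ := hx
  obtain ⟨k, rfl⟩ := hy
  obtain ⟨k, rfl⟩ : ∃ u, k = g * u := ⟨g⁻¹ * k, (mul_inv_cancel_left _ _).symm⟩
  rw [show g * k * η tH * (g * k)⁻¹ = g * (k * η tH * k⁻¹) * g⁻¹ by group] at e ⊢
  simp only [map_mul, map_inv, mul_left_inj, mul_right_inj, hη] at e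
  obtain ⟨c, h1, h2⟩ := eq_mul hp hη (y := k) (h := ⟨π k, mem_cent.2 (eq_mul_inv_iff_mul_eq.1 e).symm⟩) rfl
  rw [show Commute k (η tH) from h2 ▸ (Commute.map (Subtype.ext (eq_mul_inv_iff_mul_eq.1 e).symm) η).mul_left
    (h1 _), mul_inv_cancel_right]

theorem cube {x y : E} (hx : x ∈ DE η) (hy : y ∈ DE η) (e : (π x * π y) ^ 3 = 1) : (x * y) ^ 3 = 1 := by
  have := inj hp hη (conj_mem hy x) (conj_mem hx y) (by
    rw [inv hx, inv hy]
    simpa using braid_of_cube (by simpa [pow_succ, mul_assoc] using e) (DD_mul_self (map_mem hη hx))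
      (DD_mul_self (map_mem hη hy)))
  rw [inv hx, inv hy] at this
  simpa [pow_succ, mul_assoc] using cube_of_braid this (sq hx)

theorem exists_mu : ∃ c, (∀ g, Commute c g) ∧ c * c = 1 ∧ π c = 1 ∧
    ∀ s : HH, s.1 ∈ O1 t0 → η s * c ∈ DE η := by
  obtain ⟨x, hx, e⟩ := exists_lift hp hη s0_mem.1
  obtain ⟨c, h1, h2⟩ := eq_mul hp hη (h := ⟨s0, mem_HH s0_mem⟩) e
  refine ⟨c, h1, ?_, ?_, fun s hs => ?_⟩
  · have := sq hx
    rwa [h2, mul_assoc, (h1 _).left_comm, ← mul_assoc, ← map_mul,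
      show (⟨s0, _⟩ * ⟨s0, _⟩ : HH) = 1 from Subtype.ext (DD_mul_self s0_mem.1), map_one, one_mul] at this
  · rwa [h2, map_mul, hη, mul_eq_left] at e
  · obtain ⟨g, g1, g2⟩ := O1_trans t0_mem s0_mem hs
    have := conj_mem hx (η ⟨g, mem_cent.2 g1⟩)
    rwa [h2, ← mul_assoc, mul_assoc, (h1 _).eq, ← mul_assoc, ← map_inv, ← map_mul, ← map_mul,
      show (⟨g, _⟩ * ⟨s0, _⟩ * (⟨g, _⟩ : HH)⁻¹ : HH) = s from Subtype.ext g2] at this

theorem mul_mem {x y : E} (hx : x ∈ DE η) (hy : y ∈ DE η) (e : π x * π y ∈ DD) : x * y ∈ DE η := by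
  obtain ⟨c, -, -, h3, h4⟩ := exists_mu hp hη
  obtain ⟨g, rfl⟩ := hx
  obtain ⟨y, rfl⟩ : ∃ u, y = g * u * g⁻¹ := ⟨g⁻¹ * y * g, by group⟩
  rw [conj_mul]
  replace hy : y ∈ DE η := by simpa [mul_assoc] using conj_mem hy g⁻¹
  have h5 : π y ∈ O1 t0 := (mem_O1_iff t0_mem).2 ⟨map_mem hη hy, by
    have := conj_mem_DD (π g)⁻¹ e
    simpa [mul_assoc, hη] using! this⟩
  have h6 := h4 (tH * ⟨_, mem_HH h5⟩) (O1_mul t0_mem h5)
  rw [map_mul, mul_assoc, inj hp hη (h4 ⟨_, mem_HH h5⟩ h5) hy (by rw [map_mul, h3, hη, mul_one])] at h6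
  exact conj_mem h6 g

theorem exists_YC {n : Bimonster.Gen → K} (h : Y5 n) (h0 : n .f2 = t0) :
    ∃ m : Bimonster.Gen → E, YC m ∧ ∀ x, π (m x) = n x := by
  classical
  choose! hat m1 m2 using fun t => exists_lift hp hη (t := t)
  let m : Bimonster.Gen → E := fun x =>
    if x = .f3 then 1 else if x = .e3 then hat (n .e3 * (n .f1)⁻¹) * hat (n .f1) else hat (n x)
  have a1 : ∀ x, x ≠ .e3 → x ≠ .f3 → m x = hat (n x) := fun x a b => (if_neg b).trans (if_neg a)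
  have a2 := h.cm .e3 .f1 (by decide) (by decide)
  have a3 : ∀ x, π (m x) = n x := fun x => by
    by_cases a : x = .f3
    · rw [a, h.one]; exact map_one π
    by_cases b : x = .e3
    · rw [b]
      exact (map_mul π _ _).trans (by rw [m2 _ a2, m2 _ (h.mem (by decide) (by decide)), inv_mul_cancel_right])
    · rw [a1 x b a, m2 _ (h.mem b a)]
  let c : Bimonster.Gen → Bimonster.Gen → Prop := fun x y => m x * (m y)⁻¹ ∈ DE η
  have b0 : ∀ {x y}, c x y → c y x := fun k => by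
    have : _ ∈ _ := k
    rwa [← inv k, mul_inv_rev, inv_inv] at this
  have b1 : ∀ {y u} (x), c y u → m x * (m y)⁻¹ = m x * (m u)⁻¹ * (m y * (m u)⁻¹) := fun x k => by
    rw [← inv k]; group
  have b2 : ∀ {y u} (x), c y u → π (m x * (m u)⁻¹) * π (m y * (m u)⁻¹) = n x * (n y)⁻¹ := fun x k => by
    rw [← map_mul, ← b1 x k, map_mul, map_inv, a3, a3]
  have b3 : ∀ x y u, c x u → c y u → x ≠ y ∧ lb x y = 2 → c x y := fun x y u k l e =>
    show _ ∈ _ from b1 x l ▸ mul_mem hp hη k l (b2 x l ▸ h.cm x y e.1 e.2)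
  have c1 : ∀ x, x ≠ .e3 → x ≠ .f3 → c x .f3 := fun x a b => by
    change _ ∈ _
    rw [a1 x a b, show m .f3 = 1 from rfl, inv_one, mul_one]
    exact m1 _ (h.mem a b)
  have c2 : ∀ x y, x ≠ .e3 → y ≠ .e3 → x ≠ y ∧ lb x y = 2 → c x y := fun x y a b e => by
    by_cases k : y = .f3
    · exact k ▸ c1 x a (k ▸ e.1)
    by_cases l : x = .f3
    · exact l ▸ b0 (c1 y b k)
    · exact b3 x y _ (c1 x a l) (c1 y b k) e
  have c3 : c .e3 .f1 := by
    change _ ∈ _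
    rw [a1 .f1 (by decide) (by decide), show m .e3 = hat _ * hat _ from rfl, mul_inv_cancel_right]
    exact m1 _ a2
  have c4 := b3 _ .f2 _ c3 (c2 _ _ (by decide) (by decide) (by decide)) (by decide)
  have c5 : ∀ y, .e3 ≠ y ∧ lb .e3 y = 2 → c .e3 y := fun y e => by
    obtain k | k : (y ≠ .f1 ∧ lb y .f1 = 2) ∨ (y ≠ .f2 ∧ lb y .f2 = 2) := by cases y <;> decide
    exacts [b3 _ _ _ c3 (c2 _ _ e.1.symm (by decide) k) e, b3 _ _ _ c4 (c2 _ _ e.1.symm (by decide) k) e]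
  have c6 : ∀ x y, x ≠ y ∧ lb x y = 2 → c x y := fun x y e => by
    by_cases a : x = .e3
    · exact a ▸ c5 y (a ▸ e)
    by_cases b : y = .e3
    · exact b ▸ b0 (c5 x (by revert e; rw [b]; cases x <;> decide))
    · exact c2 x y a b e
  refine ⟨m, YC.of rfl (fun x y a b => (pow_two _).trans (sq (c6 x y ⟨a, b⟩))) (fun x y a b => ?_) ?_, a3⟩
  · obtain ⟨u, k, l⟩ : ∃ u ∈ [.f1, .f2], (x ≠ u ∧ lb x u = 2) ∧ y ≠ u ∧ lb y u = 2 := by
      revert a b; cases x <;> cases y <;> decide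
    rw [b1 x (c6 _ _ l.2)]
    exact cube hp hη (c6 _ _ l.1) (c6 _ _ l.2) (b2 x (c6 _ _ l.2) ▸ (h.br x y a b).2)
  · obtain ⟨z, z1, z2, z3, z4⟩ := exists_mu hp hη
    have d : ∀ x, x ≠ .e3 ∧ x ≠ .f3 ∧ .f2 ≠ x ∧ lb .f2 x = 2 → ∃ s : HH, s.1 = n x ∧ m x = η s * z := fun x e => by
      have := h0 ▸ h.mem_O1 .f2 x ⟨by decide, by decide, e⟩
      exact ⟨⟨_, mem_HH this⟩, rfl, inj hp hη (a1 x e.1 e.2.1 ▸ m1 _ this.1) (z4 _ this)
        (by rw [a3, map_mul, z3, hη, mul_one])⟩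
    obtain ⟨s1, e1, k1⟩ := d .a (by decide)
    obtain ⟨s2, e2, k2⟩ := d .b1 (by decide)
    obtain ⟨s3, e3, k3⟩ := d .c1 (by decide)
    obtain ⟨s4, e4, k4⟩ := d .b2 (by decide)
    obtain ⟨s5, e5, k5⟩ := d .c2 (by decide)
    obtain ⟨s6, e6, k6⟩ := d .b3 (by decide)
    obtain ⟨s7, e7, k7⟩ := d .c3 (by decide)
    have f : ∀ a b : E, a * z * (b * z) = a * b := fun a b => by rw [mul_assoc, (z1 _).left_comm, z2, mul_one]
    have g : ∀ a b : E, a * (b * z) = a * b * z := fun a b => (mul_assoc _ _ _).symm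
    rw [k1, k2, k3, k4, k5, k6, k7, f, g _ (η s3), f, g _ (η s4), f, g _ (η s1), f, g]
    simp only [← map_mul]
    rw [(z1 _).symm.mul_pow, ← map_pow, show (_ : HH) ^ 10 = 1 from Subtype.ext (by
      simpa only [coe_pow, coe_mul, e1, e2, e3, e4, e5, e6, e7] using! h.spider), map_one, one_mul,
      show 10 = 2 * 5 from rfl, pow_mul, pow_two, z2, one_pow]

omit hp hη

theorem one_K [Group.IsPerfect HH] (h : HasCyclicSchurMultiplier HH 1) (e : Monster ≃* K) :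
    HasCyclicSchurMultiplier K 1 := by
  have := finite_K
  refine hasCyclicSchurMultiplier_one_iff.2 fun E _ _ π hπ => ?_
  obtain ⟨η, hη⟩ := exists_lift_of_trivial_multiplier h HH.subtype hπ.1 hπ.2.1
  obtain ⟨n, y, g, h1, h2, h3⟩ := exists_Y5
  obtain ⟨m, k1, k2⟩ := exists_YC ⟨hπ.1, hπ.2.1⟩ (DFunLike.congr_fun hη) y h1
  obtain ⟨φ, hφ⟩ := k1.hom_M (by
    refine (Subgroup.range_subtype _).symm.trans (MonoidHom.range_eq_top.2
      (surjective_of_lift_of_ker_le_commutator _ π hπ.2.1 hπ.2.2 (MonoidHom.range_eq_top.1 ?_)))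
    rw [MonoidHom.range_comp, Subgroup.range_subtype, MonoidHom.map_closure, Set.image_image]
    simpa only [k2] using y.top_M g h1 h2 h3)
  have := Finite.of_equiv _ e.symm.toEquiv
  exact (MonoidHom.ker_eq_bot_iff _).2 (Function.Injective.of_comp_right
    ((Finite.injective_iff_surjective_of_equiv e.toEquiv).2 (hπ.1.comp hφ)) hφ)

end Cfsg.Agent.Gr.MulM
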