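import Mathlib
import Cfsg.Agent.Gr.SubG
import Cfsg.Agent.Gr.Lift
import Cfsg.Agent.Gr.Baby2
import Cfsg.Agent.Ch.UniversalCover
import Cfsg.Agent.S5417
import Cfsg.Agent.S2049
import Cfsg.Agent.S1695

/-! The Held group and `Fi₂₃` inside `K`. -/

set_option autoImplicit false

namespace Cfsg.Agent.Gr.Sub

open Subgroup Cfsg.Agent.Spor Cfsg.Agent.Spor.MT

theorem perfect_of_card {G : Type*} [Group G] [IsSimpleGroup G] (h : ¬ (Nat.card G).Prime) :
    Group.IsPerfect G := by
  rcases (inferInstance : (commutator G).Normal).eq_bot_or_eq_top with e | e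
  · have h1 : ∀ a b : G, a * b = b * a := fun a b => commutatorElement_eq_one_iff_mul_comm.1
      (mem_bot.1 (e ▸ commutator_mem_commutator (mem_top a) (mem_top b)))
    let _ : CommGroup G := { (inferInstance : Group G) with mul_comm := h1 }
    exact absurd IsSimpleGroup.prime_card h
  · exact ⟨e⟩

theorem exists_He : ∃ (y : K) (X : Subgroup K), orderOf y = 7 ∧ X ≤ centralizer {y} ∧
    Cfsg.Spor.IsoHe X := by
  have : Fact (Nat.Prime 7) := ⟨by norm_num⟩
  have hc := mdata.card_joint (mdata.pair tau_zz_mem tau_zz_ne)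
  obtain ⟨y, hy⟩ := exists_prime_orderOf_dvd_card' (G := centralizer {zz, tau * zz * tau⁻¹}) 7
    (by rw [hc]; norm_num)
  rw [← orderOf_coe] at hy
  obtain ⟨e⟩ := S5417.result zz _ isOfMonsterType (tau * zz * tau⁻¹)
    ⟨mem_centralizer_singleton_iff.2 (CL.es2.z_comm _ tau_zz_mem).symm, tau_zz_mem⟩
    (isConj_iff.2 ⟨tau, rfl⟩) tau_zz_ne (zpowers (y : K)) (zpowers_le.2 y.2) (by
      rw [hc, factorization_joint (k := 1) (by norm_num) (by norm_num) (by norm_num), pow_one,
        Nat.card_zpowers, hy])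
  have := S1695.result.1
  have := perfect_of_card (G := Cfsg.Spor.He) (by rw [S1695.result.2]; norm_num)
  obtain ⟨η, hη⟩ := Ch.exists_lift_of_trivial_multiplier S2049.result e.symm.toMonoidHom
    (QuotientGroup.mk'_surjective _) fun x hx => mem_center_iff.2 fun g =>
      Subtype.ext (g.2 x.1 ((ker_mk_subgroupOf x).1 hx)).symm
  have hi : Function.Injective η := fun a b h => e.symm.injective
    ((DFunLike.congr_fun hη a).symm.trans ((congrArg _ h).trans (DFunLike.congr_fun hη b)))
  refine ⟨y, ((centralizer (zpowers (y : K) : Set K)).subtype.comp η).range, hy, ?_,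
    ⟨(MonoidHom.ofInjective fun a b h => hi (Subtype.ext h)).symm⟩⟩
  rintro _ ⟨x, rfl⟩
  exact cz_eq (y : K) ▸ (η x).2

/-- A simple subgroup centralising an axis involution embeds in `Bm`. -/
theorem exists_Bm {X : Subgroup K} [IsSimpleGroup X] (hX : Nat.card X ≠ 2) {t : K} (ht : t ∈ DD)
    (h : X ≤ centralizer {t}) : ∃ Y : Subgroup Bm, Nonempty (Y ≃* X) := by
  obtain ⟨g, hg⟩ := exists_conj_DD ht t0_mem
  let φ : X →* HH := ((MulAut.conj g).toMonoidHom.comp X.subtype).codRestrict _ fun x =>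
    mem_centralizer_singleton_iff.2 (by
      have := congrArg (MulAut.conj g) (mem_centralizer_singleton_iff.1 (h x.2))
      rwa [map_mul, map_mul, MulAut.conj_apply g t, hg] at this)
  have hi : Function.Injective (toBm.comp φ) := by
    rw [← MonoidHom.ker_eq_bot_iff]
    refine (inferInstance : (toBm.comp φ).ker.Normal).eq_bot_or_eq_top.resolve_right fun e => hX ?_
    have k : ∀ x : X, x = 1 ∨ x.1 = t := fun x => by
      rcases (toBm_eq_one (φ x)).1 (MonoidHom.mem_ker.1 (e.ge (mem_top x))) with k | k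
      · exact Or.inl (Subtype.ext (conj_eq_one_iff.1 k))
      · exact Or.inr ((MulAut.conj g).injective (k.trans hg.symm))
    obtain ⟨x, hx⟩ := exists_ne (1 : X)
    refine Nat.card_eq_two_iff.2 ⟨x, 1, hx, Set.eq_univ_of_forall fun u => ?_⟩
    rcases k u with k' | k'
    · exact Or.inr k'
    · exact Or.inl (Subtype.ext (k'.trans ((k x).resolve_left hx).symm))
  exact ⟨_, ⟨(MonoidHom.ofInjective hi).symm⟩⟩

theorem exists_Fi23 : ∃ (t : K) (X : Subgroup K), t ∈ DD ∧ X ≤ centralizer {t} ∧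
    Nonempty (X ≃* Cfsg.Spor.Fi23) := by
  obtain ⟨t, x, s, h⟩ := exists_good
  obtain ⟨ψ, h1, h2⟩ := h.iso23 s
  refine ⟨t, ψ.range, s.mem, ?_, ⟨(MonoidHom.ofInjective h1).symm⟩⟩
  rw [MonoidHom.range_eq_map, ← TT.fis_E23.cls.2.2, MonoidHom.map_closure, h2]
  exact s.closure_le.trans inf_le_left

end Cfsg.Agent.Gr.Sub
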